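import Groth.Agent.H19.Spec.Core
import Groth.Agent.Lib.Cyc.Retr.Witness
import Groth.Agent.Lib.Cyc.FP.Rat
import Mathlib

/-!
# Specialization of prime cycles; linearity
-/

set_option autoImplicit false
set_option linter.style.haveILetI false

universe u

open CategoryTheory CategoryTheory.Limits AlgebraicGeometry IsLocalRing
open scoped TensorProduct Pointwise

namespace Groth.Agent.H19.Spec.Lin

open Groth.Agent.Lib Groth.Agent.Lib.Cyc

section Gen

variable {X S : Scheme.{u}} (a : X ⟶ S) (η s : S) (δη : ↥(a.fiber η) → ℤ) (δs : ↥(a.fiber s) → ℤ) (r : ℤ)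

theorem spFun_congr {α β : ↥(a.fiber η) → ℤ} (x : a.fiber s)
    (h : ∀ ζ, δη ζ = r → a.fiberι η ζ ⤳ a.fiberι s x → α ζ = β ζ) :
    Cyc.spFun a η s δη δs r α x = Cyc.spFun a η s δη δs r β x := by
  simp only [Cyc.spFun]
  split_ifs
  · exact finsum_congr fun ζ => by rw [h ζ.1 ζ.2.1 ζ.2.2]
  · rfl

theorem spFun_sum {ι : Type*} (A : Finset ι) (c : ι → ℤ) (g : ι → ↥(a.fiber η) → ℤ) (x : a.fiber s)
    (hfin : ∀ i ∈ A, {ζ | δη ζ = r ∧ a.fiberι η ζ ⤳ a.fiberι s x ∧ g i ζ ≠ 0}.Finite) :
    Cyc.spFun a η s δη δs r (fun ζ => ∑ i ∈ A, c i * g i ζ) x =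
      ∑ i ∈ A, c i * Cyc.spFun a η s δη δs r (g i) x := by
  simp only [Cyc.spFun]
  split_ifs
  swap
  · simp
  simp only [Finset.sum_mul]
  rw [finsum_sum_comm]
  · refine Finset.sum_congr rfl fun i _ => ?_
    rw [mul_finsum]
    exact finsum_congr fun ζ => by ring
  · intro i hi
    refine ((hfin i hi).preimage (f := Subtype.val) Subtype.val_injective.injOn).subset fun ζ hζ => ⟨ζ.2.1, ζ.2.2, ?_⟩
    exact right_ne_zero_of_mul (left_ne_zero_of_mul hζ)

end Gen

theorem sheafFun_iso {X : Scheme.{u}} (δ : X → ℤ) (k : ℤ) {F G : X.Modules} (e : F ≅ G) :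
    Cyc.sheafFun δ k F = Cyc.sheafFun δ k G := by
  funext x
  simp only [Cyc.sheafFun]
  split_ifs
  · exact congrArg (fun t : ℕ∞ => (t.toNat : ℤ)) ((Modules.StalkModule.stalkModFunctor X x).mapIso e).toLinearEquiv.length_eq
  · rfl

variable {R : Type u} [CommRing R] [IsDomain R] [IsDiscreteValuationRing R] {X : Scheme.{u}}
  (a : X ⟶ Spec (CommRingCat.of R))

theorem length_pullback_generic (F : X.Modules) (ζ : a.fiber (genericPoint ↥(Spec (CommRingCat.of R)))) :
    Module.length ((a.fiber (genericPoint ↥(Spec (CommRingCat.of R)))).presheaf.stalk ζ)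
      (((Scheme.Modules.pullback (a.fiberι (genericPoint ↥(Spec (CommRingCat.of R))))).obj F).presheaf.stalk ζ) =
      Module.length (X.presheaf.stalk (a.fiberι (genericPoint ↥(Spec (CommRingCat.of R))) ζ))
        (F.presheaf.stalk (a.fiberι (genericPoint ↥(Spec (CommRingCat.of R))) ζ)) := by
  rw [length_pullback_fiber]
  refine (Submodule.quotEquivOfEqBot _ ?_).length_eq
  rw [maximalIdeal_generic _ (FieldDim.apply_fiberι a _ ζ), Ideal.map_bot, Submodule.bot_smul]

theorem isRegularOver_closure (ξ : X) (h : a ξ = genericPoint ↥(Spec (CommRingCat.of R))) :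
    IsRegularOver a (Cyc.closureStructureSheaf ξ) := fun z c hc => by
  by_cases hz : ξ ⤳ z
  swap
  · haveI := Retr.Witness.stalk_trivial_of_not_specializes hz
    exact fun m m' _ => Subsingleton.elim m m'
  have hs : a ξ ⤳ a z := hz.map a.continuous
  have hu : IsUnit (X.presheaf.stalkSpecializes hz ((a.stalkMap z).hom c)) := by
    have e : (a.stalkMap ξ).hom ((Spec (CommRingCat.of R)).presheaf.stalkSpecializes hs c) =
        X.presheaf.stalkSpecializes hz ((a.stalkMap z).hom c) :=
      ConcreteCategory.congr_hom (a.stalkSpecializes_stalkMap ξ z hz) c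
    rw [← e]
    refine IsUnit.map _ (by_contra fun hn => hc ?_)
    have hm := (mem_maximalIdeal ((Spec (CommRingCat.of R)).presheaf.stalkSpecializes hs c)).2 hn
    rw [maximalIdeal_generic (a ξ) h, Ideal.mem_bot] at hm
    letI : Algebra R ((Spec (CommRingCat.of R)).presheaf.stalk (a z)) := StructureSheaf.stalkAlgebra R (a z)
    haveI : IsLocalization.AtPrime ((Spec (CommRingCat.of R)).presheaf.stalk (a z)) (a z).asIdeal :=
      StructureSheaf.IsLocalization.to_stalk R (a z)
    letI : Algebra R ((Spec (CommRingCat.of R)).presheaf.stalk (a ξ)) := StructureSheaf.stalkAlgebra R (a ξ)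
    haveI : IsLocalization.AtPrime ((Spec (CommRingCat.of R)).presheaf.stalk (a ξ)) (a ξ).asIdeal :=
      StructureSheaf.IsLocalization.to_stalk R (a ξ)
    obtain ⟨r₀, t, rfl⟩ := IsLocalization.exists_mk'_eq (a z).asIdeal.primeCompl c
    have h1 := congrArg ((Spec (CommRingCat.of R)).presheaf.stalkSpecializes hs).hom
      (IsLocalization.mk'_spec ((Spec (CommRingCat.of R)).presheaf.stalk (a z)) r₀ t)
    rw [map_mul] at h1
    change (Spec (CommRingCat.of R)).presheaf.stalkSpecializes hs _ * _ = _ at h1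
    rw [hm, zero_mul] at h1
    have h2 : (Spec (CommRingCat.of R)).presheaf.stalkSpecializes hs
        (algebraMap R ((Spec (CommRingCat.of R)).presheaf.stalk (a z)) r₀) =
        algebraMap R ((Spec (CommRingCat.of R)).presheaf.stalk (a ξ)) r₀ :=
      ConcreteCategory.congr_hom (StructureSheaf.toStalk_stalkSpecializes (R := R) hs) r₀
    have h3 : r₀ = 0 := IsLocalization.injective ((Spec (CommRingCat.of R)).presheaf.stalk (a ξ))
      (a ξ).asIdeal.primeCompl_le_nonZeroDivisors ((h2.symm.trans h1.symm).trans (map_zero _).symm)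
    rw [h3, IsLocalization.mk'_zero]
  intro m m' e
  have e' := congrArg ((Cyc.closureStructureSheaf ξ).presheaf.stalkSpecializes hz) e
  simp only at e'
  rw [C1.stalkSpecializes_smul, C1.stalkSpecializes_smul] at e'
  exact Retr.Witness.injective_specializes hz (hu.smul_left_cancel.1 e')

variable {δη : ↥(a.fiber (genericPoint ↥(Spec (CommRingCat.of R)))) → ℤ}

theorem prime_dim (hη : Cyc.IsDimFun _ δη) {r : ℤ} {ξ : a.fiber (genericPoint ↥(Spec (CommRingCat.of R)))}
    (hξ : δη ξ = r) (ζ : a.fiber (genericPoint ↥(Spec (CommRingCat.of R))))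
    (h : Nontrivial (((Scheme.Modules.pullback (a.fiberι (genericPoint ↥(Spec (CommRingCat.of R))))).obj
      (Cyc.closureStructureSheaf (a.fiberι (genericPoint ↥(Spec (CommRingCat.of R))) ξ))).presheaf.stalk ζ)) :
    δη ζ ≤ r := by
  have hs : a.fiberι (genericPoint ↥(Spec (CommRingCat.of R))) ξ ⤳ a.fiberι _ ζ := by_contra fun hs => by
    haveI := Retr.Witness.stalk_trivial_of_not_specializes hs
    rw [← not_subsingleton_iff_nontrivial,
      ← Module.length_eq_zero_iff (R := (a.fiber (genericPoint ↥(Spec (CommRingCat.of R)))).presheaf.stalk ζ),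
      length_pullback_generic] at h
    exact h (Module.length_eq_zero_iff.2 inferInstance)
  exact hξ ▸ DimFun.le_of_specializes hη ((FieldDim.fiber_specializes_iff a _ ξ ζ).2 hs)

theorem prime_sheafFun (hη : Cyc.IsDimFun _ δη) {r : ℤ} {ξ : a.fiber (genericPoint ↥(Spec (CommRingCat.of R)))}
    (hξ : δη ξ = r) :
    Cyc.sheafFun δη r ((Scheme.Modules.pullback (a.fiberι (genericPoint ↥(Spec (CommRingCat.of R))))).obj
      (Cyc.closureStructureSheaf (a.fiberι (genericPoint ↥(Spec (CommRingCat.of R))) ξ))) =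
    Set.indicator {ξ} 1 := by
  funext ζ
  by_cases hζ : ζ = ξ
  · subst hζ
    rw [Set.indicator_of_mem (Set.mem_singleton _), Cyc.sheafFun, if_pos hξ, length_pullback_generic,
      Devissage.Closure.length_closureStructureSheaf]
    rfl
  · rw [Set.indicator_of_notMem (fun h => hζ (Set.mem_singleton_iff.1 h)), Cyc.sheafFun]
    split_ifs with h1
    swap
    · rfl
    rw [length_pullback_generic]
    haveI : Subsingleton ((Cyc.closureStructureSheaf (a.fiberι (genericPoint ↥(Spec (CommRingCat.of R))) ξ)).presheaf.stalk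
        (a.fiberι _ ζ)) := Retr.Witness.stalk_trivial_of_not_specializes fun hs =>
      hζ (DimFun.eq_of_specializes_of_le hη ((FieldDim.fiber_specializes_iff a _ ξ ζ).2 hs) (by rw [hξ, h1])).symm
    rw [Module.length_eq_zero_iff.2 inferInstance]
    rfl

end Groth.Agent.H19.Spec.Lin
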