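import Groth.Agent.H19.Spec.Core
import Groth.Agent.H19.IntMult.SectDiv
import Groth.Agent.Lib.ProperFin.Projective
import Groth.Agent.Lib.Snapper.Twist
import Mathlib

/-!
# The structure module of a closed subscheme and cycles of fibres
-/

set_option autoImplicit false
set_option linter.style.haveILetI false

universe u

open CategoryTheory CategoryTheory.Limits AlgebraicGeometry IsLocalRing
open scoped TensorProduct Pointwise

namespace Groth.Agent.H19.Spec.Sub

open Groth.Agent.Lib Groth.Agent.Lib.Cyc

variable {X W S : Scheme.{u}} (ι : W ⟶ X) [IsClosedImmersion ι] (a : X ⟶ S)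

/-- The reduction of a stalk of the pushed forward structure module. -/
theorem length_quot_push {z : X} (w : W) (h : ι w = z) :
    Module.length (X.presheaf.stalk z) (((Coh.push ι).obj (Coh.structureModule W)).presheaf.stalk z ⧸
      (((maximalIdeal (S.presheaf.stalk (a z))).map (a.stalkMap z).hom) • ⊤ :
        Submodule (X.presheaf.stalk z) (((Coh.push ι).obj (Coh.structureModule W)).presheaf.stalk z))) =
    Module.length (W.presheaf.stalk w) (W.presheaf.stalk w ⧸
      (maximalIdeal (S.presheaf.stalk ((ι ≫ a) w))).map ((ι ≫ a).stalkMap w).hom) := by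
  subst h
  obtain ⟨u⟩ := SheafLen.exists_unit_stalk_equiv w
  letI : Algebra (X.presheaf.stalk (ι w)) (W.presheaf.stalk w) := (ι.stalkMap w).hom.toAlgebra
  let e : ((Coh.push ι).obj (Coh.structureModule W)).presheaf.stalk (ι w) →ₗ[X.presheaf.stalk (ι w)]
      W.presheaf.stalk w :=
    { toFun := fun v => u (SheafLen.pushStalk ι (Coh.structureModule W) w v)
      map_add' := fun v v' => by rw [map_add, map_add]
      map_smul' := fun c v => by
        rw [SheafLen.pushStalk_smul, map_smul]
        rfl }
  let e' := LinearEquiv.ofBijective e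
    (u.bijective.comp (SheafLen.pushStalk_bijective ι (Coh.structureModule W) w))
  set I := (maximalIdeal (S.presheaf.stalk (a (ι w)))).map (a.stalkMap (ι w)).hom with hI
  rw [(Submodule.Quotient.equiv (I • ⊤) ((I.map (algebraMap (X.presheaf.stalk (ι w)) (W.presheaf.stalk w))).restrictScalars
    (X.presheaf.stalk (ι w))) e' (by
      rw [Submodule.map_smul'', Submodule.map_top, LinearEquiv.range, Ideal.smul_top_eq_map])).length_eq,
    (Submodule.Quotient.restrictScalarsEquiv (X.presheaf.stalk (ι w)) _).length_eq,
    Module.length_eq_of_surjective (R := W.presheaf.stalk w) (S := X.presheaf.stalk (ι w)) (ι.stalkMap_surjective w)]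
  rw [show I.map (algebraMap (X.presheaf.stalk (ι w)) (W.presheaf.stalk w)) =
    (maximalIdeal (S.presheaf.stalk ((ι ≫ a) w))).map ((ι ≫ a).stalkMap w).hom from by
      rw [hI, Ideal.map_map, Scheme.Hom.stalkMap_comp]
      rfl]

theorem length_iso {A B : Scheme.{u}} (e : A ⟶ B) [IsIso e] (x : A) :
    Module.length (A.presheaf.stalk x) (A.presheaf.stalk x) =
      Module.length (B.presheaf.stalk (e x)) (B.presheaf.stalk (e x)) := by
  letI := (e.stalkMap x).hom.toAlgebra
  have hb : Function.Bijective (algebraMap (B.presheaf.stalk (e x)) (A.presheaf.stalk x)) :=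
    ConcreteCategory.bijective_of_isIso (e.stalkMap x)
  rw [← Module.length_eq_of_surjective (R := A.presheaf.stalk x) (S := B.presheaf.stalk (e x)) hb.2]
  exact (LinearEquiv.ofBijective (Algebra.linearMap (B.presheaf.stalk (e x)) (A.presheaf.stalk x)) hb).length_eq.symm

/-- The cycle of the fibre of a closed subscheme. -/
theorem subschemeFun_eq (y : S) (δ : ↥(a.fiber y) → ℤ) (r : ℤ) :
    Cyc.subschemeFun δ r (pullback.snd ι (a.fiberι y)) =
      Cyc.sheafFun δ r ((Scheme.Modules.pullback (a.fiberι y)).obj ((Coh.push ι).obj (Coh.structureModule W))) := by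
  funext x
  simp only [Cyc.subschemeFun, Cyc.sheafFun]
  split_ifs
  swap
  · rfl
  rw [length_pullback_fiber]
  by_cases hx : a.fiberι y x ∈ Set.range ι
  · obtain ⟨w, hw⟩ := hx
    obtain ⟨v, hv1, hv2⟩ := Scheme.Pullback.exists_preimage_pullback w x hw
    rw [show {z | pullback.snd ι (a.fiberι y) z = x} = {v} from Set.ext fun v' =>
      ⟨fun h => (pullback.snd ι (a.fiberι y)).isClosedEmbedding.injective ((h : _ = x).trans hv2.symm),
        fun h => (congrArg _ (h : v' = v)).trans hv2⟩, finsum_mem_singleton]
    let e : pullback ι (a.fiberι y) ⟶ (ι ≫ a).fiber y :=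
      (pullbackRightPullbackFstIso a (S.fromSpecResidueField y) ι).hom
    haveI : IsIso e := (pullbackRightPullbackFstIso a (S.fromSpecResidueField y) ι).isIso_hom
    have he0 : e ≫ (ι ≫ a).fiberι y = pullback.fst ι (a.fiberι y) :=
      pullbackRightPullbackFstIso_hom_fst a (S.fromSpecResidueField y) ι
    have he : (ι ≫ a).fiberι y (e v) = w := by
      rw [← Scheme.Hom.comp_apply, he0, hv1]
    rw [length_quot_push ι a ((ι ≫ a).fiberι y (e v)) (by rw [he]; exact hw), length_iso e v]
    refine congrArg (fun t : ℕ∞ => (t.toNat : ℤ)) ?_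
    rw [← IntMult.SectDiv.length_of_surj ((ι ≫ a).fiberι y |>.stalkMap (e v)).hom
      ((ι ≫ a).fiberι y |>.stalkMap_surjective (e v)) _ (H46.FiberStalk.ker_stalkMap_fiberι (ι ≫ a) y (e v))]
  · rw [finsum_mem_eq_zero_of_forall_eq_zero]
    · have := SheafLen.subsingleton_push_stalk ι (Coh.structureModule W) (Set.range ι)
        ι.isClosedEmbedding.isClosed_range (fun w _ => ⟨w, rfl⟩) _ hx
      rw [Module.length_eq_zero_iff.2 inferInstance]
      rfl
    · rintro v (hv : _ = x)
      exact absurd ⟨pullback.fst ι (a.fiberι y) v, by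
        rw [← Scheme.Hom.comp_apply, pullback.condition, Scheme.Hom.comp_apply, hv]⟩ hx

theorem nontrivial_imp (y : S) (x : a.fiber y)
    (h : Nontrivial (((Scheme.Modules.pullback (a.fiberι y)).obj ((Coh.push ι).obj (Coh.structureModule W))).presheaf.stalk x)) :
    a.fiberι y x ∈ Set.range ι := by
  by_contra hx
  have := SheafLen.subsingleton_push_stalk ι (Coh.structureModule W) (Set.range ι)
    ι.isClosedEmbedding.isClosed_range (fun w _ => ⟨w, rfl⟩) _ hx
  rw [← not_subsingleton_iff_nontrivial, ← Module.length_eq_zero_iff (R := (a.fiber y).presheaf.stalk x),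
    length_pullback_fiber] at h
  exact h (Module.length_eq_zero_iff.2 inferInstance)

theorem nontrivial_of_mem (y : S) (x : a.fiber y) (h : a.fiberι y x ∈ Set.range ι) :
    Nontrivial (((Scheme.Modules.pullback (a.fiberι y)).obj ((Coh.push ι).obj (Coh.structureModule W))).presheaf.stalk x) := by
  obtain ⟨w, hw⟩ := h
  rw [← not_subsingleton_iff_nontrivial, ← Module.length_eq_zero_iff (R := (a.fiber y).presheaf.stalk x),
    length_pullback_fiber, length_quot_push ι a w hw, Module.length_eq_zero_iff, not_subsingleton_iff_nontrivial]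
  refine Ideal.Quotient.nontrivial_iff.2 (ne_top_of_le_ne_top (maximalIdeal.isMaximal (W.presheaf.stalk w)).ne_top
    (Ideal.map_le_iff_le_comap.2 fun c hc hu => hc ?_))
  exact isUnit_of_map_unit ((ι ≫ a).stalkMap w).hom c hu

end Groth.Agent.H19.Spec.Sub
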