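import Groth.Agent.H19.IntMult.StalkLen
import Groth.Agent.H46.FiberStalk
import Groth.Agent.Lib.Cyc.FieldDim
import Groth.Agent.Lib.Cyc.InducedDimFun
import Groth.Agent.Lib.Cyc.LengthFormula
import Groth.Agent.Lib.Cyc.SheafLen
import Groth.Agent.Lib.DerivedOX.PullbackStalk
import Groth.Agent.Lib.Cyc.FP.Stalk
import Groth.Agent.Lib.Excellent.Localization
import Groth.Agent.H18.CMPoly
import Groth.Agent.H25.CMUnmixed
import Mathlib

/-!
# Specialization of the cycle of a module flat over a discrete valuation ring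
-/

set_option autoImplicit false
set_option linter.style.haveILetI false

universe u

open CategoryTheory CategoryTheory.Limits AlgebraicGeometry IsLocalRing
open scoped TensorProduct Pointwise

namespace Groth.Agent.H19.Spec

open Groth.Agent.Lib Groth.Agent.Lib.Cyc

/-- The length of a stalk of a pullback along a map surjective on stalks. -/
theorem length_pullback_surj {X Y : Scheme.{u}} (f : X ⟶ Y) (M : Y.Modules) (x : X)
    (hs : Function.Surjective (f.stalkMap x).hom) (I : Ideal (Y.presheaf.stalk (f x)))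
    (hI : RingHom.ker (f.stalkMap x).hom = I) :
    Module.length (X.presheaf.stalk x) (((Scheme.Modules.pullback f).obj M).presheaf.stalk x) =
      Module.length (Y.presheaf.stalk (f x))
        (M.presheaf.stalk (f x) ⧸ (I • ⊤ : Submodule (Y.presheaf.stalk (f x)) (M.presheaf.stalk (f x)))) := by
  letI := (f.stalkMap x).hom.toAlgebra
  haveI := DerivedOX.PullbackStalk.isIso_comparison f x
  have h : Module.length (X.presheaf.stalk x)
      (X.presheaf.stalk x ⊗[Y.presheaf.stalk (f x)] M.presheaf.stalk (f x)) =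
      Module.length (X.presheaf.stalk x) (((Scheme.Modules.pullback f).obj M).presheaf.stalk x) :=
    (asIso ((DerivedOX.PullbackStalk.comparison f x).app M)).toLinearEquiv.length_eq
  rw [← h, ← Module.length_eq_of_surjective (S := Y.presheaf.stalk (f x)) (R := X.presheaf.stalk x)
    (M := X.presheaf.stalk x ⊗[Y.presheaf.stalk (f x)] M.presheaf.stalk (f x)) hs]
  subst hI
  exact ((TensorProduct.congr
    (Ideal.quotientKerAlgEquivOfSurjective (f := Algebra.ofId (Y.presheaf.stalk (f x)) (X.presheaf.stalk x))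
      hs).toLinearEquiv.symm (LinearEquiv.refl _ _)).trans
    (TensorProduct.quotTensorEquivQuotSMul (M.presheaf.stalk (f x)) _)).length_eq

/-- The length of a stalk of a restriction to a fibre. -/
theorem length_pullback_fiber {X S : Scheme.{u}} (a : X ⟶ S) (M : X.Modules) (y : S) (x : a.fiber y) :
    Module.length ((a.fiber y).presheaf.stalk x) (((Scheme.Modules.pullback (a.fiberι y)).obj M).presheaf.stalk x) =
      Module.length (X.presheaf.stalk (a.fiberι y x))
        (M.presheaf.stalk (a.fiberι y x) ⧸ (((maximalIdeal (S.presheaf.stalk (a (a.fiberι y x)))).map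
          (a.stalkMap (a.fiberι y x)).hom) •
            ⊤ : Submodule (X.presheaf.stalk (a.fiberι y x)) (M.presheaf.stalk (a.fiberι y x)))) :=
  length_pullback_surj (a.fiberι y) M x ((a.fiberι y).stalkMap_surjective x) _
    (H46.FiberStalk.ker_stalkMap_fiberι a y x)

variable {R : Type u} [CommRing R] [IsDomain R] [IsDiscreteValuationRing R]

theorem ord_eq {A B : Type u} [CommRing A] [CommRing B] (φ : B →+* A) (p : Ideal A) (c : B) :
    Module.length A ((A ⧸ p) ⧸ (Ideal.span {c}).map ((Ideal.Quotient.mk p).comp φ)) =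
      Ring.ord (A ⧸ p) (Ideal.Quotient.mk p (φ c)) := by
  rw [Ring.ord, Ideal.map_span, Set.image_singleton]
  exact Module.length_eq_of_surjective Ideal.Quotient.mk_surjective

theorem eq_or (t : Spec (CommRingCat.of R)) : t = closedPoint R ∨ t = genericPoint ↥(Spec (CommRingCat.of R)) := by
  rw [genericPoint_eq_bot_of_affine]
  by_cases h : t.asIdeal = ⊥
  · exact Or.inr (PrimeSpectrum.ext h)
  · exact Or.inl (PrimeSpectrum.ext (IsLocalRing.eq_maximalIdeal (t.2.isMaximal h)))

theorem closed_ne_generic : (closedPoint R : ↥(Spec (CommRingCat.of R))) ≠ genericPoint ↥(Spec (CommRingCat.of R)) := by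
  rw [genericPoint_eq_bot_of_affine]
  exact fun h => IsDiscreteValuationRing.not_a_field R (congrArg PrimeSpectrum.asIdeal h)

open scoped Classical in
/-- The dimension function of the trait. -/
noncomputable def δS (t : ↥(Spec (CommRingCat.of R))) : ℤ := if t = closedPoint R then 0 else 1

theorem δS_closed : δS (R := R) (closedPoint R) = 0 := if_pos rfl

theorem δS_generic : δS (genericPoint ↥(Spec (CommRingCat.of R))) = 1 := if_neg closed_ne_generic.symm

theorem isDimFun_δS : Cyc.IsDimFun (Spec (CommRingCat.of R)) δS := by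
  intro x y hxy hne
  rcases eq_or x with rfl | rfl
  · exact absurd (((isClosed_singleton_closedPoint R).closure_eq.subset
      (specializes_iff_mem_closure.1 hxy) : y = closedPoint R)).symm hne
  · rcases eq_or y with rfl | rfl
    · rw [δS_closed, δS_generic]
      exact ⟨one_pos, fun _ => rfl⟩
    · exact absurd rfl hne

theorem isUniversallyCatenary_stalk (t : ↥(Spec (CommRingCat.of R))) :
    CAlg.IsUniversallyCatenary ((Spec (CommRingCat.of R)).presheaf.stalk t) := by
  letI : Algebra R ((Spec (CommRingCat.of R)).presheaf.stalk t) := StructureSheaf.stalkAlgebra R t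
  haveI : IsLocalization.AtPrime ((Spec (CommRingCat.of R)).presheaf.stalk t) t.asIdeal :=
    StructureSheaf.IsLocalization.to_stalk R t
  haveI : IsRegularRing R := inferInstance
  haveI := H25.CMUnmixed.isCohenMacaulayRing_of_regular R
  exact Excellent.Localization.isUniversallyCatenary_of_isLocalization (A := R) t.asIdeal.primeCompl
    (H18.CMPoly.isUniversallyCatenary R)

theorem exists_uniformizer (t : ↥(Spec (CommRingCat.of R))) (ht : t = closedPoint R) :
    ∃ c : (Spec (CommRingCat.of R)).presheaf.stalk t, c ≠ 0 ∧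
      maximalIdeal ((Spec (CommRingCat.of R)).presheaf.stalk t) = Ideal.span {c} := by
  letI : Algebra R ((Spec (CommRingCat.of R)).presheaf.stalk t) := StructureSheaf.stalkAlgebra R t
  haveI : IsLocalization.AtPrime ((Spec (CommRingCat.of R)).presheaf.stalk t) t.asIdeal :=
    StructureSheaf.IsLocalization.to_stalk R t
  obtain ⟨ϖ, hϖ⟩ := IsDiscreteValuationRing.exists_irreducible R
  have hm : t.asIdeal = Ideal.span {ϖ} := by
    rw [ht]; exact (IsDiscreteValuationRing.irreducible_iff_uniformizer ϖ).1 hϖ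
  refine ⟨algebraMap R ((Spec (CommRingCat.of R)).presheaf.stalk t) ϖ, fun h => hϖ.ne_zero ?_, ?_⟩
  · exact IsLocalization.injective ((Spec (CommRingCat.of R)).presheaf.stalk t)
      t.asIdeal.primeCompl_le_nonZeroDivisors (h.trans (map_zero _).symm)
  · rw [← IsLocalization.AtPrime.map_eq_maximalIdeal t.asIdeal ((Spec (CommRingCat.of R)).presheaf.stalk t),
      hm, Ideal.map_span, Set.image_singleton]

variable {X : Scheme.{u}} (a : X ⟶ Spec (CommRingCat.of R))

/-- The dimension function on a scheme over the trait. -/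
noncomputable def δX (z : X) : ℤ := δS (a z) + (Residue.trdegAt a z).toNat

variable {a}
  {δη : ↥(a.fiber (genericPoint ↥(Spec (CommRingCat.of R)))) → ℤ} {δs : ↥(a.fiber (closedPoint R)) → ℤ}

theorem δX_fiber {y : ↥(Spec (CommRingCat.of R))} {δy : ↥(a.fiber y) → ℤ}
    (h : Cyc.DeltaCompat (a.fiberToSpecResidueField y) δy (fun _ => 0)) (w : a.fiber y) :
    δX a (a.fiberι y w) = δS y + δy w ∧
      ∃ n : ℕ, Residue.trdegAt a (a.fiberι y w) = n := by
  obtain ⟨n, hn, hn'⟩ := Residue.exists_trdegAt h w
  rw [FieldDim.trdegAt_fiber] at hn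
  refine ⟨?_, n, hn⟩
  rw [δX, FieldDim.apply_fiberι, hn, Cardinal.toNat_natCast, hn', zero_add]

theorem deltaCompat (hη : Cyc.DeltaCompat (a.fiberToSpecResidueField (genericPoint ↥(Spec (CommRingCat.of R)))) δη (fun _ => 0))
    (hs : Cyc.DeltaCompat (a.fiberToSpecResidueField (closedPoint R)) δs (fun _ => 0)) :
    Cyc.DeltaCompat a (δX a) δS := by
  intro z
  rcases eq_or (a z) with h | h <;> obtain ⟨w, rfl⟩ := FieldDim.exists_fiberι_eq a z _ h
  · obtain ⟨-, n, hn⟩ := δX_fiber hs w
    exact ⟨n, hn, by rw [δX, hn, Cardinal.toNat_natCast]⟩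
  · obtain ⟨-, n, hn⟩ := δX_fiber hη w
    exact ⟨n, hn, by rw [δX, hn, Cardinal.toNat_natCast]⟩

theorem comap_fromSpecStalk {S : Scheme.{u}} (b : X ⟶ S) (x : X) (p : PrimeSpectrum (X.presheaf.stalk x)) :
    b (X.fromSpecStalk x p) = S.fromSpecStalk (b x) (PrimeSpectrum.comap (b.stalkMap x).hom p) := by
  rw [← Scheme.Hom.comp_apply, ← Scheme.SpecMap_stalkMap_fromSpecStalk, Scheme.Hom.comp_apply]
  rfl

/-- The module is torsion free over the trait. -/
def IsRegularOver (a : X ⟶ Spec (CommRingCat.of R)) (F : X.Modules) : Prop :=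
  ∀ (z : X) (c : (Spec (CommRingCat.of R)).presheaf.stalk (a z)), c ≠ 0 →
    IsSMulRegular (F.presheaf.stalk z) ((a.stalkMap z).hom c)

theorem maximalIdeal_generic (t : ↥(Spec (CommRingCat.of R))) (ht : t = genericPoint ↥(Spec (CommRingCat.of R))) :
    maximalIdeal ((Spec (CommRingCat.of R)).presheaf.stalk t) = ⊥ := by
  letI : Algebra R ((Spec (CommRingCat.of R)).presheaf.stalk t) := StructureSheaf.stalkAlgebra R t
  haveI : IsLocalization.AtPrime ((Spec (CommRingCat.of R)).presheaf.stalk t) t.asIdeal :=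
    StructureSheaf.IsLocalization.to_stalk R t
  have : t.asIdeal = ⊥ := by rw [ht, genericPoint_eq_bot_of_affine]; rfl
  rw [← IsLocalization.AtPrime.map_eq_maximalIdeal t.asIdeal ((Spec (CommRingCat.of R)).presheaf.stalk t),
    this, Ideal.map_bot]

theorem main [LocallyOfFiniteType a] [IsLocallyNoetherian X]
    (hη : Cyc.DeltaCompat (a.fiberToSpecResidueField (genericPoint ↥(Spec (CommRingCat.of R)))) δη (fun _ => 0))
    (hs : Cyc.DeltaCompat (a.fiberToSpecResidueField (closedPoint R)) δs (fun _ => 0))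
    (r : ℤ) (F : X.Modules) (hF : Coh.IsCoh F) (hreg : IsRegularOver a F)
    (hdim : ∀ ζ, Nontrivial (((Scheme.Modules.pullback
      (a.fiberι (genericPoint ↥(Spec (CommRingCat.of R))))).obj F).presheaf.stalk ζ) → δη ζ ≤ r) :
    (∀ x, Nontrivial (((Scheme.Modules.pullback (a.fiberι (closedPoint R))).obj F).presheaf.stalk x) → δs x ≤ r) ∧
      Cyc.spFun a (genericPoint ↥(Spec (CommRingCat.of R))) (closedPoint R) δη δs r
        (Cyc.sheafFun δη r ((Scheme.Modules.pullback (a.fiberι (genericPoint ↥(Spec (CommRingCat.of R))))).obj F)) =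
      Cyc.sheafFun δs r ((Scheme.Modules.pullback (a.fiberι (closedPoint R))).obj F) := by
  classical
  haveI := hF.1
  haveI := hF.2
  have hδ := deltaCompat hη hs
  have hX := InducedDimFun.isDimFun a isDimFun_δS isUniversallyCatenary_stalk hδ
  have hds : ∀ w, δX a (a.fiberι (closedPoint R) w) = δs w := fun w => by
    rw [(δX_fiber hs w).1, δS_closed, zero_add]
  have hdη : ∀ w, δX a (a.fiberι (genericPoint ↥(Spec (CommRingCat.of R))) w) = δη w + 1 := fun w => by
    rw [(δX_fiber hη w).1, δS_generic, add_comm]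
  -- the stalks on the generic fibre
  have hlenη : ∀ ζ, Module.length ((a.fiber (genericPoint ↥(Spec (CommRingCat.of R)))).presheaf.stalk ζ)
      (((Scheme.Modules.pullback (a.fiberι (genericPoint ↥(Spec (CommRingCat.of R))))).obj F).presheaf.stalk ζ) =
      Module.length (X.presheaf.stalk (a.fiberι (genericPoint ↥(Spec (CommRingCat.of R))) ζ))
        (F.presheaf.stalk (a.fiberι (genericPoint ↥(Spec (CommRingCat.of R))) ζ)) := fun ζ => by
    rw [length_pullback_fiber]
    refine (Submodule.quotEquivOfEqBot _ ?_).length_eq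
    rw [maximalIdeal_generic _ (FieldDim.apply_fiberι a _ ζ), Ideal.map_bot, Submodule.bot_smul]
  have hgen : ∀ z, Nontrivial (F.presheaf.stalk z) → a z ≠ closedPoint R → δX a z ≤ r + 1 := fun z hz hne => by
    obtain ⟨ζ, rfl⟩ := FieldDim.exists_fiberι_eq a z _ ((eq_or (a z)).resolve_left hne)
    have h1 := hdim ζ (by
      rw [← not_subsingleton_iff_nontrivial, ← Module.length_eq_zero_iff (R := (a.fiber (genericPoint ↥(Spec (CommRingCat.of R)))).presheaf.stalk ζ), hlenη, Module.length_eq_zero_iff,
        not_subsingleton_iff_nontrivial]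
      exact hz)
    rw [hdη]
    omega
  -- closed points of the special fibre
  have key : ∀ x, Nontrivial (F.presheaf.stalk x) → a x = closedPoint R → δX a x ≤ r := fun x hx hxs => by
    obtain ⟨c, hc0, hc⟩ := exists_uniformizer (a x) hxs
    have hr := hreg x c hc0
    haveI := Modules.GenStalk.finite_stalk F x
    obtain ⟨p, hp⟩ := associatedPrimes.nonempty (X.presheaf.stalk x) (F.presheaf.stalk x)
    let P : PrimeSpectrum (X.presheaf.stalk x) := ⟨p, hp.isPrime⟩
    have hP : P ∈ Module.support (X.presheaf.stalk x) (F.presheaf.stalk x) := by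
      rw [Module.support_eq_zeroLocus]
      have h' := IsAssociatedPrime.annihilator_le hp
      rwa [Submodule.annihilator_top] at h'
    have hcP : (a.stalkMap x).hom c ∉ p := fun h => by
      have h' : (a.stalkMap x).hom c ∈ ⋃ q ∈ associatedPrimes (X.presheaf.stalk x) (F.presheaf.stalk x), (q : Set _) :=
        Set.mem_biUnion hp h
      rw [biUnion_associatedPrimes_eq_compl_regular] at h'
      exact h' hr
    have hne : a (X.fromSpecStalk x P) ≠ closedPoint R := fun h => hcP (by
      rw [comap_fromSpecStalk a x P, ← hxs] at h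
      have h2 := DimFun.fromSpecStalk_injective (a x) (h.trans Scheme.fromSpecStalk_closedPoint.symm)
      have h3 : c ∈ maximalIdeal ((Spec (CommRingCat.of R)).presheaf.stalk (a x)) := hc ▸ Ideal.mem_span_singleton_self c
      rw [show maximalIdeal ((Spec (CommRingCat.of R)).presheaf.stalk (a x)) = p.comap (a.stalkMap x).hom from
        (congrArg PrimeSpectrum.asIdeal h2).symm] at h3
      exact h3)
    have h4 := hgen _ ((IntMult.StalkLen.mem_support_stalk F x P).1 hP) hne
    have h5 := DimFun.lt_of_specializes hX (DimFun.fromSpecStalk_specializes_self x P)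
      fun h => hne (by rw [h, hxs])
    omega
  have hFs : ∀ x, Nontrivial (((Scheme.Modules.pullback (a.fiberι (closedPoint R))).obj F).presheaf.stalk x) →
      Nontrivial (F.presheaf.stalk (a.fiberι (closedPoint R) x)) := fun x h => by
    rw [← not_subsingleton_iff_nontrivial, ← Module.length_eq_zero_iff (R := (a.fiber (closedPoint R)).presheaf.stalk x), length_pullback_fiber,
      Module.length_eq_zero_iff, not_subsingleton_iff_nontrivial] at h
    haveI := h
    exact (Submodule.Quotient.mk_surjective (((maximalIdeal ((Spec (CommRingCat.of R)).presheaf.stalk (a (a.fiberι (closedPoint R) x)))).map (a.stalkMap (a.fiberι (closedPoint R) x)).hom) • (⊤ : Submodule (X.presheaf.stalk (a.fiberι (closedPoint R) x)) (F.presheaf.stalk (a.fiberι (closedPoint R) x))))).nontrivial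
  refine ⟨fun x h => hds x ▸ key _ (hFs x h) (FieldDim.apply_fiberι a _ x), funext fun x => ?_⟩
  simp only [Cyc.spFun, Cyc.sheafFun]
  split_ifs with hxr
  swap
  · rfl
  set x' := a.fiberι (closedPoint R) x with hx'
  have hxs : a x' = closedPoint R := FieldDim.apply_fiberι a _ x
  obtain ⟨c, hc0, hc⟩ := exists_uniformizer (a x') hxs
  have hr := hreg x' c hc0
  haveI := Modules.GenStalk.finite_stalk F x'
  set π := (a.stalkMap x').hom c with hπ
  have hmap : (maximalIdeal ((Spec (CommRingCat.of R)).presheaf.stalk (a x'))).map (a.stalkMap x').hom =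
      Ideal.span {π} := by
    rw [hc, Ideal.map_span, Set.image_singleton]
  have hdx : δX a x' = r := (hds x).trans hxr
  let pt := fun p : PrimeSpectrum (X.presheaf.stalk x') => X.fromSpecStalk x' p
  have hspec : ∀ p, pt p ⤳ x' := fun p => DimFun.fromSpecStalk_specializes_self x' p
  have hlt : ∀ p : PrimeSpectrum (X.presheaf.stalk x'), p.asIdeal ≠ maximalIdeal _ → r < δX a (pt p) := fun p hp =>
    hdx ▸ DimFun.lt_of_specializes hX (hspec p) fun h => hp (congrArg PrimeSpectrum.asIdeal
      (DimFun.fromSpecStalk_injective x' (h.trans Scheme.fromSpecStalk_closedPoint.symm :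
        X.fromSpecStalk x' p = X.fromSpecStalk x' (closedPoint _))))
  have hsupp : ∀ p, p ∈ Module.support (X.presheaf.stalk x') (F.presheaf.stalk x') →
      p.asIdeal ≠ maximalIdeal _ → a (pt p) ≠ closedPoint R ∧ δX a (pt p) = r + 1 := fun p hp hpm => by
    have h1 := (IntMult.StalkLen.mem_support_stalk F x' p).1 hp
    have h2 := hlt p hpm
    have h3 : a (pt p) ≠ closedPoint R := fun h => by
      have : δX a (pt p) ≤ r := key _ h1 h
      omega
    have : δX a (pt p) ≤ r + 1 := hgen _ h1 h3
    exact ⟨h3, by omega⟩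
  have hyp : LengthFormula.Hyp (F.presheaf.stalk x') π := fun p hp hpm => by
    refine ⟨fun hπp => (hsupp p hp hpm).1 ?_, fun q hpq => ?_⟩
    · have h3 : maximalIdeal ((Spec (CommRingCat.of R)).presheaf.stalk (a x')) ≤ p.asIdeal.comap (a.stalkMap x').hom :=
        Ideal.map_le_iff_le_comap.1 (hmap.le.trans ((Ideal.span_singleton_le_iff_mem _).2 hπp))
      have h4 : PrimeSpectrum.comap (a.stalkMap x').hom p = closedPoint _ := PrimeSpectrum.ext
        (((maximalIdeal.isMaximal _).eq_of_le (Ideal.IsPrime.comap _).ne_top h3).symm)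
      show a (X.fromSpecStalk x' p) = _
      rw [comap_fromSpecStalk a x' p, h4, Scheme.fromSpecStalk_closedPoint, hxs]
    · by_contra hqm
      have h2 := hlt q hqm
      have h3 := DimFun.lt_of_specializes hX ((DimFun.fromSpecStalk_specializes_iff x' p q).2 hpq.le)
        fun h => hpq.ne (DimFun.fromSpecStalk_injective x' h)
      have := (hsupp p hp hpm).2
      simp only [pt] at h2 this
      omega
  -- the length formula
  have hker : LinearMap.ker (LinearMap.lsmul (X.presheaf.stalk x') (F.presheaf.stalk x') π) = ⊥ :=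
    LinearMap.ker_eq_bot.2 hr
  rw [length_pullback_fiber, hmap, Submodule.ideal_span_singleton_smul, LengthFormula.length_quot_eq hyp, hker,
    Module.length_bot, zero_add]
  let T := hyp.finite.toFinset
  have hT : ∀ p, p ∈ T ↔ p ∈ Module.support (X.presheaf.stalk x') (F.presheaf.stalk x') ∧
      p.asIdeal ≠ maximalIdeal _ := fun p => Set.Finite.mem_toFinset _
  have htot : LengthFormula.total (F.presheaf.stalk x') π =
      ∑ p ∈ T, LengthFormula.term (F.presheaf.stalk x') π p := by
    rw [LengthFormula.total]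
    exact finsum_cond_eq_sum_of_cond_iff _ fun {p} hne => ⟨fun h => (hT p).2
      ⟨by_contra fun h' => hne (LengthFormula.term_eq_zero _ π p h'), h⟩, fun h => ((hT p).1 h).2⟩
  have hfin : ∀ p ∈ T, LengthFormula.term (F.presheaf.stalk x') π p ≠ ⊤ := fun p hp => by
    refine ne_top_of_le_ne_top (LengthFormula.coker_lt_top hyp).ne ?_
    rw [LengthFormula.length_quot_eq hyp, htot]
    exact le_add_left (Finset.single_le_sum (f := fun q => LengthFormula.term (F.presheaf.stalk x') π q)
      (fun q _ => zero_le) hp)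
  have hex : ∀ p ∈ T, ∃ ζ, a.fiberι (genericPoint ↥(Spec (CommRingCat.of R))) ζ = pt p ∧ δη ζ = r := fun p hp => by
    obtain ⟨h1, h2⟩ := hsupp p ((hT p).1 hp).1 ((hT p).1 hp).2
    obtain ⟨ζ, hζ⟩ := FieldDim.exists_fiberι_eq a (pt p) _ ((eq_or (a (pt p))).resolve_left h1)
    refine ⟨ζ, hζ, ?_⟩
    rw [← hζ, hdη] at h2
    omega
  choose e he1 he2 using hex
  let e' : T → {ζ // δη ζ = r ∧ a.fiberι (genericPoint ↥(Spec (CommRingCat.of R))) ζ ⤳ x'} := fun p =>
    ⟨e p.1 p.2, he2 p.1 p.2, by rw [he1]; exact hspec _⟩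
  have he' : Function.Injective e' := fun p q h => Subtype.ext (DimFun.fromSpecStalk_injective x'
    ((he1 p.1 p.2).symm.trans ((congrArg (a.fiberι _) (congrArg Subtype.val h)).trans (he1 q.1 q.2))))
  have hval : ∀ ζ : {ζ // δη ζ = r ∧ a.fiberι (genericPoint ↥(Spec (CommRingCat.of R))) ζ ⤳ x'},
      (if δη ζ.1 = r then ((Module.length ((a.fiber (genericPoint ↥(Spec (CommRingCat.of R)))).presheaf.stalk ζ.1)
        (((Scheme.Modules.pullback (a.fiberι (genericPoint ↥(Spec (CommRingCat.of R))))).obj F).presheaf.stalk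
          ζ.1)).toNat : ℤ) else 0) *
      ((Module.length (X.presheaf.stalk x')
        (Cyc.LocQuot x' (a.fiberι _ ζ.1) ζ.2.2 ⧸
          (maximalIdeal ((Spec (CommRingCat.of R)).presheaf.stalk (a x'))).map
            ((Ideal.Quotient.mk (RingHom.ker (Cyc.specMap x' (a.fiberι _ ζ.1) ζ.2.2))).comp
              (a.stalkMap x').hom))).toNat : ℤ) =
      ((LengthFormula.term (F.presheaf.stalk x') π (DimFun.genPrime x' (a.fiberι _ ζ.1) ζ.2.2)).toNat : ℤ) := by
    rintro ⟨ζ, hζ1, hζ2⟩
    rw [if_pos hζ1, hlenη]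
    have hl := IntMult.StalkLen.locLen_stalk F x' (DimFun.genPrime x' _ hζ2)
    rw [DimFun.fromSpecStalk_genPrime] at hl
    rw [LengthFormula.term, ENat.toNat_mul, Nat.cast_mul, mul_comm]
    congr 1
    · exact congrArg (fun t : ℕ∞ => (t.toNat : ℤ)) (by rw [hc]; exact ord_eq (a.stalkMap x').hom _ c)
    · exact congrArg (fun t : ℕ∞ => (t.toNat : ℤ)) hl.symm
  have hrhs : ((LengthFormula.total (F.presheaf.stalk x') π).toNat : ℤ) =
      ∑ p ∈ T, ((LengthFormula.term (F.presheaf.stalk x') π p).toNat : ℤ) := by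
    rw [htot, ENat.toNat_sum hfin, Nat.cast_sum]
  rw [hrhs, finsum_congr hval, finsum_eq_sum_of_support_subset (s := Finset.univ.map ⟨e', he'⟩) _ ?_,
    Finset.sum_map, ← Finset.sum_coe_sort T]
  · refine Finset.sum_congr rfl fun p _ => ?_
    congr 3
    exact DimFun.fromSpecStalk_injective x' ((DimFun.fromSpecStalk_genPrime _ _ _).trans (he1 p.1 p.2))
  · rintro ⟨ζ, hζ1, hζ2⟩ hne
    simp only [Finset.coe_map, Finset.coe_univ, Set.image_univ, Set.mem_range, Function.Embedding.coeFn_mk]
    have hp : DimFun.genPrime x' _ hζ2 ∈ T := by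
      refine (hT _).2 ⟨by_contra fun h' => hne (by simp [LengthFormula.term_eq_zero _ π _ h']), fun h => ?_⟩
      have h2 := hdη ζ
      have h3 : a.fiberι _ ζ = x' := by
        rw [← DimFun.fromSpecStalk_genPrime x' _ hζ2, show DimFun.genPrime x' _ hζ2 = closedPoint _ from PrimeSpectrum.ext h,
          Scheme.fromSpecStalk_closedPoint]
      rw [h3, hdx] at h2
      omega
    exact ⟨⟨_, hp⟩, Subtype.ext ((a.fiberι _).isEmbedding.injective
      ((he1 _ hp).trans (DimFun.fromSpecStalk_genPrime _ _ _)))⟩

end Groth.Agent.H19.Spec
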