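import Groth.Agent.H19.Spec.Lin
import Groth.Agent.Lib.Cyc.FP.Main
import Mathlib

/-!
# Specialization commutes with flat pullback
-/

set_option autoImplicit false
set_option linter.style.haveILetI false

universe u

open CategoryTheory CategoryTheory.Limits AlgebraicGeometry IsLocalRing
open scoped TensorProduct Pointwise

namespace Groth.Agent.H19.Spec.Pull

open Groth.Agent.Lib Groth.Agent.Lib.Cyc

theorem deltaCompat_of_base {A B S : Scheme.{u}} (h : A ⟶ B) (g : B ⟶ S) {δA : A → ℤ} {δB : B → ℤ} {δS : S → ℤ}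
    (hB : Cyc.DeltaCompat g δB δS) (hA : Cyc.DeltaCompat (h ≫ g) δA δS) : Cyc.DeltaCompat h δA δB := by
  intro a
  obtain ⟨m, hm, hm'⟩ := Residue.exists_trdegAt hA a
  obtain ⟨l, hl, hl'⟩ := Residue.exists_trdegAt hB (h a)
  rw [Residue.trdegAt_comp, hl] at hm
  have hlt : Residue.trdegAt h a < Cardinal.aleph0 :=
    lt_of_le_of_lt (hm ▸ self_le_add_left _ _) (Cardinal.natCast_lt_aleph0 (n := m))
  obtain ⟨j, hj⟩ := Cardinal.lt_aleph0.1 hlt
  rw [hj] at hm
  have hlj : l + j = m := by exact_mod_cast hm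
  refine ⟨j, hj, ?_⟩
  rw [Scheme.Hom.comp_apply] at hm'
  omega

variable {X' X S : Scheme.{u}} (f : X' ⟶ X) (b : X ⟶ S)

/-- The map of fibres. -/
noncomputable abbrev fibMap (y : S) : (f ≫ b).fiber y ⟶ b.fiber y :=
  pullback.map (f ≫ b) (S.fromSpecResidueField y) b (S.fromSpecResidueField y) f (𝟙 _) (𝟙 _)
    (Category.comp_id _) ((Category.comp_id _).trans (Category.id_comp _).symm)

theorem fibMap_fiberι (y : S) : fibMap f b y ≫ b.fiberι y = (f ≫ b).fiberι y ≫ f :=
  pullback.lift_fst _ _ _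

theorem fiberι_apply (y : S) (z : (f ≫ b).fiber y) : b.fiberι y (fibMap f b y z) = f ((f ≫ b).fiberι y z) := by
  rw [← Scheme.Hom.comp_apply, fibMap_fiberι, Scheme.Hom.comp_apply]

theorem map_eq {T : Scheme.{u}} (g : T ⟶ S) :
    pullback.map (f ≫ b) g b g f (𝟙 _) (𝟙 _) (Category.comp_id _) ((Category.comp_id _).trans (Category.id_comp _).symm) =
      (pullbackRightPullbackFstIso b g f).inv ≫ pullback.snd f (pullback.fst b g) := by
  apply pullback.hom_ext
  · rw [Category.assoc, ← pullback.condition, pullbackRightPullbackFstIso_inv_fst_assoc]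
    exact pullback.lift_fst _ _ _
  · rw [Category.assoc, pullbackRightPullbackFstIso_inv_snd_snd]
    exact (pullback.lift_snd _ _ _).trans (Category.comp_id _)

theorem flat_map [Flat f] {T : Scheme.{u}} (g : T ⟶ S) : Flat (pullback.map (f ≫ b) g b g f (𝟙 _) (𝟙 _)
    (Category.comp_id _) ((Category.comp_id _).trans (Category.id_comp _).symm)) := by
  rw [map_eq]
  haveI : Flat (pullback.snd f (pullback.fst b g)) := MorphismProperty.pullback_snd _ _ ‹Flat f›
  exact MorphismProperty.comp_mem _ _ _ inferInstance inferInstance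

theorem lft_map [LocallyOfFiniteType f] {T : Scheme.{u}} (g : T ⟶ S) : LocallyOfFiniteType
    (pullback.map (f ≫ b) g b g f (𝟙 _) (𝟙 _) (Category.comp_id _) ((Category.comp_id _).trans (Category.id_comp _).symm)) := by
  rw [map_eq]
  haveI : LocallyOfFiniteType (pullback.snd f (pullback.fst b g)) := MorphismProperty.pullback_snd _ _ ‹LocallyOfFiniteType f›
  exact MorphismProperty.comp_mem _ _ _ inferInstance inferInstance

theorem flat_fibMap [Flat f] (y : S) : Flat (fibMap f b y) := flat_map f b (S.fromSpecResidueField y)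

theorem lft_fibMap [LocallyOfFiniteType f] (y : S) : LocallyOfFiniteType (fibMap f b y) :=
  lft_map f b (S.fromSpecResidueField y)

theorem shift_fibMap [Flat f] {δ' : X' → ℤ} {δ : X → ℤ} {c : ℤ} (h : FP.Main.Shift f δ' δ c) (y : S) {t : ℤ}
    {δ'y : ↥((f ≫ b).fiber y) → ℤ} {δy : ↥(b.fiber y) → ℤ}
    (h' : ∀ z, δ' ((f ≫ b).fiberι y z) = t + δ'y z) (h0 : ∀ z, δ (b.fiberι y z) = t + δy z) :
    FP.Main.Shift (fibMap f b y) δ'y δy c := fun z hz => by
  have hm : FibLen.IsMaxFib f ((f ≫ b).fiberι y z) := fun w hw hwz => by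
    have hy : (f ≫ b) w = y := by
      show b (f w) = y
      rw [hw]
      exact FieldDim.apply_fiberι (f ≫ b) y z
    obtain ⟨v, rfl⟩ := FieldDim.exists_fiberι_eq (f ≫ b) w y hy
    rw [← fiberι_apply, ← fiberι_apply] at hw
    exact congrArg _ (hz v ((b.fiberι y).isEmbedding.injective hw)
      ((FieldDim.fiber_specializes_iff (f ≫ b) y v z).2 hwz))
  have e := h _ hm
  rw [h', ← fiberι_apply, h0] at e
  omega

/-- Pullback to the fibres in two orders. -/
noncomputable def pullIso (y : S) (F : X.Modules) :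
    (Scheme.Modules.pullback ((f ≫ b).fiberι y)).obj ((Scheme.Modules.pullback f).obj F) ≅
      (Scheme.Modules.pullback (fibMap f b y)).obj ((Scheme.Modules.pullback (b.fiberι y)).obj F) :=
  (Scheme.Modules.pullbackComp ((f ≫ b).fiberι y) f).app F ≪≫
    (Scheme.Modules.pullbackCongr (fibMap_fiberι f b y).symm).app F ≪≫
    ((Scheme.Modules.pullbackComp (fibMap f b y) (b.fiberι y)).app F).symm

theorem isRegularOver_pullback {R : Type u} [CommRing R] [IsDomain R] [IsDiscreteValuationRing R]
    (b : X ⟶ Spec (CommRingCat.of R)) [Flat f] {F : X.Modules} (hF : IsRegularOver b F) :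
    IsRegularOver (f ≫ b) ((Scheme.Modules.pullback f).obj F) := fun z c hc => by
  letI := (f.stalkMap z).hom.toAlgebra
  haveI : Module.Flat (X.presheaf.stalk (f z)) (X'.presheaf.stalk z) := Flat.stalkMap f z
  haveI := DerivedOX.PullbackStalk.isIso_comparison f z
  let e : X'.presheaf.stalk z ⊗[X.presheaf.stalk (f z)] F.presheaf.stalk (f z) ≃ₗ[X'.presheaf.stalk z]
      ((Scheme.Modules.pullback f).obj F).presheaf.stalk z :=
    (asIso ((DerivedOX.PullbackStalk.comparison f z).app F)).toLinearEquiv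
  have hr : IsSMulRegular (X'.presheaf.stalk z ⊗[X.presheaf.stalk (f z)] F.presheaf.stalk (f z))
      ((b.stalkMap (f z)).hom c) :=
    IsSMulRegular.lTensor _ (hF (f z) c hc)
  have hc' : ((f ≫ b).stalkMap z).hom c = algebraMap (X.presheaf.stalk (f z)) (X'.presheaf.stalk z) ((b.stalkMap (f z)).hom c) := by
    rw [Scheme.Hom.stalkMap_comp]; rfl
  intro m m' h
  rw [hc'] at h
  have h2 := congrArg e.symm h
  simp only [map_smul, algebraMap_smul] at h2
  exact e.symm.injective (hr h2)

end Groth.Agent.H19.Spec.Pull
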