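import Groth.Agent.H19.Spec.Lin
import Groth.Agent.H19.Spec.Pull
import Groth.Agent.Lib.Cyc.Ord
import Groth.Agent.Lib.Cyc.Residue
import Mathlib

/-!
# Specialization as the divisor of the uniformizer
-/

set_option autoImplicit false
set_option linter.style.haveILetI false

universe u

open CategoryTheory CategoryTheory.Limits AlgebraicGeometry IsLocalRing
open scoped TensorProduct Pointwise

namespace Groth.Agent.H19.Spec.Div

open Groth.Agent.Lib Groth.Agent.Lib.Cyc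

variable {R : Type u} [CommRing R] [IsDomain R] [IsDiscreteValuationRing R]

/-- An element of the base in the local rings of the trait. -/
noncomputable def baseGerm (ϖ : R) (t : ↥(Spec (CommRingCat.of R))) : (Spec (CommRingCat.of R)).presheaf.stalk t :=
  @algebraMap R ((Spec (CommRingCat.of R)).presheaf.stalk t) _ _ (StructureSheaf.stalkAlgebra R t) ϖ

theorem baseGerm_spec (ϖ : R) {t t' : ↥(Spec (CommRingCat.of R))} (h : t ⤳ t') :
    (Spec (CommRingCat.of R)).presheaf.stalkSpecializes h (baseGerm ϖ t') = baseGerm ϖ t :=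
  ConcreteCategory.congr_hom (StructureSheaf.toStalk_stalkSpecializes (R := R) h) ϖ

theorem baseGerm_ne_zero {ϖ : R} (hϖ : ϖ ≠ 0) (t : ↥(Spec (CommRingCat.of R))) : baseGerm ϖ t ≠ 0 := fun h => by
  letI : Algebra R ((Spec (CommRingCat.of R)).presheaf.stalk t) := StructureSheaf.stalkAlgebra R t
  haveI : IsLocalization.AtPrime ((Spec (CommRingCat.of R)).presheaf.stalk t) t.asIdeal :=
    StructureSheaf.IsLocalization.to_stalk R t
  exact hϖ (IsLocalization.injective ((Spec (CommRingCat.of R)).presheaf.stalk t)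
    t.asIdeal.primeCompl_le_nonZeroDivisors (h.trans (map_zero _).symm))

theorem baseGerm_maximal {ϖ : R} (hϖ : Irreducible ϖ) (t : ↥(Spec (CommRingCat.of R))) (ht : t = closedPoint R) :
    maximalIdeal ((Spec (CommRingCat.of R)).presheaf.stalk t) = Ideal.span {baseGerm ϖ t} := by
  letI : Algebra R ((Spec (CommRingCat.of R)).presheaf.stalk t) := StructureSheaf.stalkAlgebra R t
  haveI : IsLocalization.AtPrime ((Spec (CommRingCat.of R)).presheaf.stalk t) t.asIdeal :=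
    StructureSheaf.IsLocalization.to_stalk R t
  have hm : t.asIdeal = Ideal.span {ϖ} := by
    rw [ht]; exact (IsDiscreteValuationRing.irreducible_iff_uniformizer ϖ).1 hϖ
  rw [← IsLocalization.AtPrime.map_eq_maximalIdeal t.asIdeal ((Spec (CommRingCat.of R)).presheaf.stalk t),
    hm, Ideal.map_span, Set.image_singleton]
  rfl

variable {X : Scheme.{u}} (a : X ⟶ Spec (CommRingCat.of R)) (ϖ : R)

/-- An element of the base in the residue fields. -/
noncomputable def φ (z : X) : X.residueField z := X.residue z (a.stalkMap z (baseGerm ϖ (a z)))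

theorem specMap_eq {ξ x : X} (h : ξ ⤳ x) :
    Cyc.specMap x ξ h (a.stalkMap x (baseGerm ϖ (a x))) = φ a ϖ ξ := by
  show X.residue ξ (X.presheaf.stalkSpecializes h (a.stalkMap x (baseGerm ϖ (a x)))) = _
  rw [φ]
  refine congrArg _ ?_
  refine (ConcreteCategory.congr_hom (a.stalkSpecializes_stalkMap ξ x h) (baseGerm ϖ (a x))).symm.trans ?_
  exact congrArg (fun c => a.stalkMap ξ c) (baseGerm_spec ϖ (h.map a.continuous))

theorem φ_ne_zero {ξ : X} (h : a ξ = genericPoint ↥(Spec (CommRingCat.of R))) (hϖ : ϖ ≠ 0) : φ a ϖ ξ ≠ 0 := by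
  intro h0
  have hm := (IsLocalRing.residue_eq_zero_iff _).1 h0
  have h1 : baseGerm ϖ (a ξ) ∈ maximalIdeal ((Spec (CommRingCat.of R)).presheaf.stalk (a ξ)) :=
    (mem_maximalIdeal _).2 fun hu => (mem_maximalIdeal _).1 hm (hu.map (a.stalkMap ξ).hom)
  rw [maximalIdeal_generic (a ξ) h, Ideal.mem_bot] at h1
  exact baseGerm_ne_zero hϖ _ h1

theorem norm_φ {Y : Scheme.{u}} (f : X ⟶ Y) (b : Y ⟶ Spec (CommRingCat.of R)) (ξ : X) :
    Cyc.normGen f ξ (φ (f ≫ b) ϖ ξ) = φ b ϖ (f ξ) ^ f.residueDegree ξ := by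
  letI := (f.residueFieldMap ξ).hom.toAlgebra
  have h : φ (f ≫ b) ϖ ξ = algebraMap (Y.residueField (f ξ)) (X.residueField ξ) (φ b ϖ (f ξ)) := by
    show _ = f.residueFieldMap ξ (Y.residue (f ξ) (b.stalkMap (f ξ) (baseGerm ϖ (b (f ξ)))))
    refine Eq.trans ?_ (ConcreteCategory.congr_hom (Scheme.residue_residueFieldMap f ξ) _).symm
    simp only [φ, Scheme.Hom.stalkMap_comp]
    rfl
  show Algebra.norm (Y.residueField (f ξ)) (φ (f ≫ b) ϖ ξ) = _
  rw [h, Algebra.norm_algebraMap]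
  rfl

theorem ordAt_pow [IsLocallyNoetherian X] {δ : X → ℤ} (hδ : Cyc.IsDimFun X δ) (x ξ : X) (h : ξ ⤳ x)
    (hd : δ ξ ≤ δ x + 1) (g : X.residueField ξ) (hg : g ≠ 0) (d : ℕ) :
    Cyc.ordAt x ξ h (g ^ d) = d * Cyc.ordAt x ξ h g := by
  induction d with
  | zero => rw [pow_zero, Ord.ordAt_one hδ x ξ h hd, Nat.cast_zero, zero_mul]
  | succ d ih =>
    rw [pow_succ, Ord.ordAt_mul hδ x ξ h hd _ _ (pow_ne_zero d hg) hg, ih]
    push_cast
    ring

theorem divFun_pow [IsLocallyNoetherian X] {δ : X → ℤ} (hδ : Cyc.IsDimFun X δ) (ξ : X)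
    (g : X.residueField ξ) (hg : g ≠ 0) (d : ℕ) (x : X) :
    Cyc.divFun δ ξ (g ^ d) x = d * Cyc.divFun δ ξ g x := by
  simp only [Cyc.divFun]
  split_ifs with h
  · exact ordAt_pow hδ x ξ h.1 h.2.ge g hg d
  · simp

/-- A principal divisor as a cycle. -/
noncomputable def divCycle [IsLocallyNoetherian X] {δ : X → ℤ} (hδ : Cyc.IsDimFun X δ) (ξ : X)
    (g : X.residueField ξ) : AlgebraicCycle X ℤ where
  toFun := Cyc.divFun δ ξ g
  supportWithinDomain' := Set.subset_univ _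
  supportLocallyFiniteWithinDomain' z _ := by
    obtain ⟨U, hU, hz, hfin⟩ := Ord.exists_open_finite_divFun hδ ξ g z
    exact ⟨U, hU.mem_nhds hz, hfin⟩

variable {a}
  {δη : ↥(a.fiber (genericPoint ↥(Spec (CommRingCat.of R)))) → ℤ} {δs : ↥(a.fiber (closedPoint R)) → ℤ}

theorem δX_eq (hη : Cyc.DeltaCompat (a.fiberToSpecResidueField (genericPoint ↥(Spec (CommRingCat.of R)))) δη (fun _ => 0))
    (hs : Cyc.DeltaCompat (a.fiberToSpecResidueField (closedPoint R)) δs (fun _ => 0)) :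
    (∀ w, δX a (a.fiberι (closedPoint R) w) = δs w) ∧
      ∀ w, δX a (a.fiberι (genericPoint ↥(Spec (CommRingCat.of R))) w) = δη w + 1 :=
  ⟨fun w => by rw [(δX_fiber hs w).1, δS_closed, zero_add],
    fun w => by rw [(δX_fiber hη w).1, δS_generic, add_comm]⟩

/-- Specialization is the divisor of the uniformizer. -/
theorem spFun_eq [LocallyOfFiniteType a] [IsLocallyNoetherian X]
    (hη : Cyc.DeltaCompat (a.fiberToSpecResidueField (genericPoint ↥(Spec (CommRingCat.of R)))) δη (fun _ => 0))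
    (hs : Cyc.DeltaCompat (a.fiberToSpecResidueField (closedPoint R)) δs (fun _ => 0))
    (r : ℤ) (α : ↥(a.fiber (genericPoint ↥(Spec (CommRingCat.of R)))) → ℤ) {ϖ : R} (hϖ : Irreducible ϖ)
    (x : a.fiber (closedPoint R)) (hx : δs x = r) (A : Finset ↥(a.fiber (genericPoint ↥(Spec (CommRingCat.of R)))))
    (hA : ∀ ξ, α ξ ≠ 0 → δη ξ = r → a.fiberι _ ξ ⤳ a.fiberι _ x → ξ ∈ A) (hAr : ∀ ξ ∈ A, δη ξ = r) :
    Cyc.spFun a (genericPoint ↥(Spec (CommRingCat.of R))) (closedPoint R) δη δs r α x =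
      ∑ ξ ∈ A, α ξ * Cyc.divFun (δX a) (a.fiberι _ ξ) (φ a ϖ (a.fiberι _ ξ)) (a.fiberι _ x) := by
  classical
  have hX := InducedDimFun.isDimFun a isDimFun_δS isUniversallyCatenary_stalk (deltaCompat hη hs)
  obtain ⟨hds, hdη⟩ := δX_eq hη hs
  simp only [Cyc.spFun]
  rw [if_pos hx]
  have hterm : ∀ ζ : {ζ // δη ζ = r ∧ a.fiberι (genericPoint ↥(Spec (CommRingCat.of R))) ζ ⤳ a.fiberι (closedPoint R) x},
      α ζ.1 * ((Module.length (X.presheaf.stalk (a.fiberι (closedPoint R) x))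
        (Cyc.LocQuot (a.fiberι (closedPoint R) x) (a.fiberι _ ζ.1) ζ.2.2 ⧸
          (maximalIdeal ((Spec (CommRingCat.of R)).presheaf.stalk (a (a.fiberι (closedPoint R) x)))).map
            ((Ideal.Quotient.mk (RingHom.ker (Cyc.specMap (a.fiberι (closedPoint R) x) (a.fiberι _ ζ.1) ζ.2.2))).comp
              (a.stalkMap (a.fiberι (closedPoint R) x)).hom))).toNat : ℤ) =
      α ζ.1 * Cyc.divFun (δX a) (a.fiberι _ ζ.1) (φ a ϖ (a.fiberι _ ζ.1)) (a.fiberι _ x) := by
    rintro ⟨ζ, h1, h2⟩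
    have hd : δX a (a.fiberι (closedPoint R) x) + 1 = δX a (a.fiberι _ ζ) := by rw [hds, hdη, hx, h1]
    refine congrArg _ ?_
    rw [baseGerm_maximal hϖ _ (FieldDim.apply_fiberι a _ x), ord_eq, Cyc.divFun, dif_pos ⟨h2, hd⟩,
      ← specMap_eq a ϖ h2, Ord.ordAt_specMap hX _ _ h2 hd.ge _ (by
        rw [specMap_eq a ϖ h2]
        exact φ_ne_zero a ϖ (FieldDim.apply_fiberι a _ ζ) hϖ.ne_zero)]
  rw [finsum_congr hterm]
  rw [finsum_subtype_eq_finsum_cond (f := fun ζ => α ζ * Cyc.divFun (δX a) (a.fiberι _ ζ) (φ a ϖ (a.fiberι _ ζ)) (a.fiberι _ x))]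
  refine finsum_cond_eq_sum_of_cond_iff _ fun {ζ} hne => ⟨fun h => hA ζ (left_ne_zero_of_mul hne) h.1 h.2,
    fun h => ⟨hAr ζ h, by_contra fun h' => right_ne_zero_of_mul hne (dif_neg fun hc => h' hc.1)⟩⟩

theorem residueDegree_fibMap {X' Y S : Scheme.{u}} (f : X' ⟶ Y) (b : Y ⟶ S) (y : S) (z : (f ≫ b).fiber y) :
    (Pull.fibMap f b y).residueDegree z = f.residueDegree ((f ≫ b).fiberι y z) := by
  have ht : ∀ {A B : Scheme.{u}} (g : A ⟶ B) [IsPreimmersion g] (w : A), g.residueDegree w = 1 := fun g _ w =>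
    Residue.residueDegree_eq_one_of_surjective w (FieldDim.residueFieldMap_surjective g w)
  have e1 := Residue.residueDegree_comp (Pull.fibMap f b y) (b.fiberι y) z
  have e2 := Residue.residueDegree_comp ((f ≫ b).fiberι y) f z
  rw [ht (b.fiberι y)] at e1
  rw [ht ((f ≫ b).fiberι y)] at e2
  simp only [one_mul, mul_one] at e1 e2
  rw [← e1, ← e2, Pull.fibMap_fiberι]

end Groth.Agent.H19.Spec.Div
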